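import Mathlib.GroupTheory.QuotientGroup.Basic
import Mathlib.GroupTheory.FiniteAbelian.Duality
import Mathlib.Analysis.Complex.Polynomial.Basic
import Mathlib.RingTheory.RootsOfUnity.AlgebraicallyClosed
import Mathlib.GroupTheory.Index

/-!
# Sums over cosets, and fixed points in a commutator subgroup

* `card_mul_eq_sum`: a function on a finite abelian group orthogonal to all nontrivial characters is
  constant.
* `coset_sum`: the same for the sums over the cosets of a subgroup.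
* `eq_one_of_fixed_mem`: coprime action on an abelian group.
-/

set_option autoImplicit false

namespace Cfsg.Agent.Watanabe

open scoped Classical

universe u

theorem card_mul_eq_sum {Q : Type u} [CommGroup Q] [Fintype Q] (r : Q → ℂ)
    (h : ∀ φ : Q →* ℂˣ, φ ≠ 1 → ∑ y, ((φ y : ℂˣ) : ℂ) * r y = 0) (a : Q) :
    (Fintype.card Q : ℂ) * r a = ∑ y, r y := by
  haveI : HasEnoughRootsOfUnity ℂ (Monoid.exponent Q) := by
    haveI : NeZero (Monoid.exponent Q) := ⟨Monoid.ExponentExists.of_finite.exponent_ne_zero⟩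
    haveI : NeZero ((Monoid.exponent Q : ℕ) : ℂ) := ⟨Nat.cast_ne_zero.2 (NeZero.ne _)⟩
    infer_instance
  obtain ⟨e⟩ := CommGroup.monoidHom_mulEquiv_of_hasEnoughRootsOfUnity Q ℂ
  haveI : Fintype (Q →* ℂˣ) := Fintype.ofEquiv Q e.symm.toEquiv
  have hsum : ∀ z : Q, ∑ φ : Q →* ℂˣ, ((φ z : ℂˣ) : ℂ) =
      if z = 1 then (Fintype.card Q : ℂ) else 0 := by
    intro z
    split_ifs with hz
    · subst hz
      simp [Fintype.card_congr e.toEquiv]
    · obtain ⟨ψ, hψ⟩ := CommGroup.exists_apply_ne_one_of_hasEnoughRootsOfUnity Q ℂ hz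
      have h1 : ((ψ z : ℂˣ) : ℂ) * ∑ φ : Q →* ℂˣ, ((φ z : ℂˣ) : ℂ) =
          ∑ φ : Q →* ℂˣ, ((φ z : ℂˣ) : ℂ) := by
        rw [Finset.mul_sum]
        exact Fintype.sum_equiv (Equiv.mulLeft ψ) _ _ fun φ => by simp
      have hne : ((ψ z : ℂˣ) : ℂ) ≠ 1 := fun h => hψ (Units.ext h)
      have h2 : (((ψ z : ℂˣ) : ℂ) - 1) * ∑ φ : Q →* ℂˣ, ((φ z : ℂˣ) : ℂ) = 0 := by
        rw [sub_mul, h1, one_mul, sub_self]
      exact (mul_eq_zero.1 h2).resolve_left (sub_ne_zero.2 hne)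
  have h1 : ∑ y : Q, ∑ φ : Q →* ℂˣ, ((φ (a⁻¹ * y) : ℂˣ) : ℂ) * r y = (Fintype.card Q : ℂ) * r a := by
    simp only [← Finset.sum_mul, hsum, inv_mul_eq_one]
    rw [Finset.sum_eq_single a] <;> simp +contextual [eq_comm]
  rw [← h1, Finset.sum_comm, Finset.sum_eq_single (1 : Q →* ℂˣ)]
  · simp
  · intro φ _ hφ
    simp only [map_mul, Units.val_mul, mul_assoc, ← Finset.mul_sum, h φ hφ, mul_zero]
  · simp

theorem coset_sum {G : Type u} [Group G] [Fintype G] {P W : Subgroup G}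
    (hcomm : ∀ x ∈ P, ∀ y ∈ P, x * y = y * x) (r : G → ℂ) (k : ℂ)
    (hk : ∑ x : P, r x = k)
    (h : ∀ lam : G → ℂ, lam 1 = 1 → (∀ x ∈ P, ∀ y ∈ P, lam (x * y) = lam x * lam y) →
      (∀ x ∈ P, x ∈ W → lam x = 1) → (∃ x ∈ P, lam x ≠ 1) → ∑ x : P, lam x * r x = 0)
    {a : G} (ha : a ∈ P) :
    (W.relIndex P : ℂ) * ∑ x ∈ Finset.univ.filter (fun x : P => a⁻¹ * x ∈ W), r x = k := by
  letI : CommGroup P := { (inferInstance : Group P) with
    mul_comm := fun x y => Subtype.ext (hcomm _ x.2 _ y.2) }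
  haveI : Fintype (P ⧸ W.subgroupOf P) := Fintype.ofFinite _
  set π : P → P ⧸ W.subgroupOf P := QuotientGroup.mk with hπ
  have hfib : ∑ y, ∑ x ∈ Finset.univ.filter (fun x => π x = y), r (x : P) = k := by
    rw [Finset.sum_fiberwise, hk]
  have hset : Finset.univ.filter (fun x => π x = π ⟨a, ha⟩) =
      Finset.univ.filter (fun x : P => a⁻¹ * x ∈ W) := by
    refine Finset.filter_congr fun x _ => ?_
    rw [eq_comm, hπ, QuotientGroup.eq, Subgroup.mem_subgroupOf]
    simp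
  have := card_mul_eq_sum (fun y => ∑ x ∈ Finset.univ.filter (fun x => π x = y), r (x : P))
    (fun φ hφ => ?_) (π ⟨a, ha⟩)
  · rw [hfib, hset] at this
    rw [← this, Subgroup.relIndex, Subgroup.index_eq_card, Nat.card_eq_fintype_card]
  let lam : G → ℂ := fun g => if hg : g ∈ P then ((φ (π ⟨g, hg⟩) : ℂˣ) : ℂ) else 0
  have hlam : ∀ x : P, lam x = ((φ (π x) : ℂˣ) : ℂ) := fun x => dif_pos x.2
  have h0 := h lam ?_ ?_ ?_ ?_
  · rw [← h0, ← Finset.sum_fiberwise (s := Finset.univ) (g := π)]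
    refine Finset.sum_congr rfl fun y _ => ?_
    rw [Finset.mul_sum]
    exact Finset.sum_congr rfl fun x hx => by rw [hlam, (Finset.mem_filter.1 hx).2]
  · rw [show (1 : G) = ((1 : P) : G) from rfl, hlam]
    simp [hπ]
  · intro x hx y hy
    rw [show x * y = ((⟨x, hx⟩ * ⟨y, hy⟩ : P) : G) from rfl, hlam,
      show lam x = _ from hlam ⟨x, hx⟩, show lam y = _ from hlam ⟨y, hy⟩, hπ, QuotientGroup.mk_mul,
      map_mul, Units.val_mul]
  · intro x hx hxW
    rw [show lam x = _ from hlam ⟨x, hx⟩, hπ, (QuotientGroup.eq_one_iff (⟨x, hx⟩ : P)).2 hxW]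
    simp
  · by_contra hne
    push_neg at hne
    refine hφ (MonoidHom.ext fun y => ?_)
    obtain ⟨x, rfl⟩ := QuotientGroup.mk_surjective y
    exact Units.ext ((hlam x).symm.trans (hne x x.2))

/-- The subgroup generated by the commutators of `S` and `P`. -/
def commSub {G : Type u} [Group G] (S P : Subgroup G) : Subgroup G :=
  Subgroup.closure {y | ∃ t ∈ S, ∃ x ∈ P, y = t * x * t⁻¹ * x⁻¹}

theorem commSub_le {G : Type u} [Group G] {S P : Subgroup G}
    (hS : S ≤ Subgroup.normalizer (P : Set G)) : commSub S P ≤ P := by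
  refine (Subgroup.closure_le _).2 ?_
  rintro _ ⟨t, ht, x, hx, rfl⟩
  exact mul_mem ((Subgroup.mem_normalizer_iff.1 (hS ht) x).1 hx) (inv_mem hx)

theorem eq_one_of_fixed_mem {G : Type u} [Group G] [Fintype G] {p : ℕ} [Fact p.Prime]
    {S P : Subgroup G} (hP : IsPGroup p P) (hcomm : ∀ x ∈ P, ∀ y ∈ P, x * y = y * x)
    (hS : S ≤ Subgroup.normalizer (P : Set G))
    [hN : ((Subgroup.centralizer (P : Set G)).subgroupOf S).Normal]
    (hidx : ¬ p ∣ (Subgroup.centralizer (P : Set G)).relIndex S)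
    {w : G} (hw : w ∈ commSub S P) (hfix : ∀ t ∈ S, t * w * t⁻¹ = w) : w = 1 := by
  letI : CommGroup P := { (inferInstance : Group P) with
    mul_comm := fun x y => Subtype.ext (hcomm _ x.2 _ y.2) }
  set C := (Subgroup.centralizer (P : Set G)).subgroupOf S
  haveI : Fintype (S ⧸ C) := Fintype.ofFinite _
  let act : S → P → P := fun t x =>
    ⟨t * x * (t : G)⁻¹, (Subgroup.mem_normalizer_iff.1 (hS t.2) x).1 x.2⟩
  have hact : ∀ (q : S ⧸ C) (t : S), (t : S ⧸ C) = q → ∀ x, act q.out x = act t x := by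
    intro q t hq x
    have h : ((t : S) : S ⧸ C) = (q.out : S ⧸ C) := hq.trans (QuotientGroup.out_eq' q).symm
    rw [QuotientGroup.eq, Subgroup.mem_subgroupOf] at h
    have h1 := Subgroup.mem_centralizer_iff.1 h x x.2
    apply Subtype.ext
    show (q.out : G) * x * (q.out : G)⁻¹ = (t : G) * x * (t : G)⁻¹
    simp only [Subgroup.coe_mul, Subgroup.coe_inv] at h1
    calc (q.out : G) * x * (q.out : G)⁻¹ =
        (t : G) * ((t : G)⁻¹ * q.out * x) * (q.out : G)⁻¹ := by group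
      _ = (t : G) * (x * ((t : G)⁻¹ * q.out)) * (q.out : G)⁻¹ := by rw [h1]
      _ = _ := by group
  let ν : P →* P :=
    { toFun := fun x => ∏ q : S ⧸ C, act q.out x
      map_one' := Finset.prod_eq_one fun q _ => Subtype.ext (by simp [act])
      map_mul' := fun x y => by
        rw [← Finset.prod_mul_distrib]
        exact Finset.prod_congr rfl fun q _ => Subtype.ext (by simp [act]) }
  have hν : ∀ (t : S) (x : P), ν (act t x) = ν x := by
    intro t x
    refine Fintype.prod_equiv (Equiv.mulRight (t : S ⧸ C)) _ _ fun q => ?_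
    rw [show Equiv.mulRight (t : S ⧸ C) q = q * t from rfl,
      hact (q * t) (q.out * t) (by rw [QuotientGroup.mk_mul, QuotientGroup.out_eq'])]
    exact Subtype.ext (by simp [act]; group)
  have hker : commSub S P ≤ ν.ker.map P.subtype := by
    refine (Subgroup.closure_le _).2 ?_
    rintro _ ⟨t, ht, x, hx, rfl⟩
    refine ⟨act ⟨t, ht⟩ ⟨x, hx⟩ * ⟨x, hx⟩⁻¹, ?_, rfl⟩
    show act ⟨t, ht⟩ ⟨x, hx⟩ * ⟨x, hx⟩⁻¹ ∈ ν.ker
    rw [MonoidHom.mem_ker, map_mul, map_inv, hν, mul_inv_cancel]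
  obtain ⟨w', hw', rfl⟩ := hker hw
  have h1 : ν w' = w' ^ Fintype.card (S ⧸ C) := by
    show ∏ q : S ⧸ C, act q.out w' = _
    rw [Finset.prod_congr rfl fun q _ => show act q.out w' = w' from Subtype.ext (hfix _ q.out.2),
      Finset.prod_const, Finset.card_univ]
  rw [MonoidHom.mem_ker.1 hw'] at h1
  have hcard : Fintype.card (S ⧸ C) = (Subgroup.centralizer (P : Set G)).relIndex S := by
    rw [Subgroup.relIndex, Subgroup.index_eq_card, Nat.card_eq_fintype_card]
  obtain ⟨n, hn⟩ := hP w'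
  have hord : orderOf w' = 1 := Nat.eq_one_of_dvd_coprimes
    ((((Fact.out : p.Prime).coprime_iff_not_dvd).2 (hcard ▸ hidx)).pow_left n)
    (orderOf_dvd_of_pow_eq_one hn) (orderOf_dvd_of_pow_eq_one h1.symm)
  simp [orderOf_eq_one_iff.1 hord]

end Cfsg.Agent.Watanabe
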