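import Cfsg.Agent.Lib.BrauerPairs.AbelianDefect
import Cfsg.Agent.Lib.Blocks.ContributionCongr
import Cfsg.Agent.Lib.Blocks.NilpotentRank.Pairs
import Cfsg.Agent.Lib.Star.Integrality

/-!
# Weights of a block with abelian defect group

For a maximal pair `(P, e)` of `B` with `P` abelian and `T` its stabiliser, let
`w(x) = l(b_x) / |x^T|` for `x ∈ P`. Then `Σ w(x) = k(B)` and `Σ lam(x) w(x) = 0` for every
nontrivial `T`-invariant linear character `lam` of `P`: each `⟨lam * χ, χ⟩` is an integer of absolute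
value less than one.
-/

set_option autoImplicit false
set_option linter.unusedSectionVars false
set_option linter.style.haveILetI false

namespace Cfsg.Agent.Watanabe

open Cfsg Blocks MonoidAlgebra
open Cfsg.Agent.BrauerPairs (blk blkG IsBlockIdem br conjEl conjPair IsPairOf IsMax PLE IsPair BHom
  stabOf hasBlocks isBlockIdem_blkG)
open Cfsg.Agent.Blocks.NilRank (eU eU_spec eU_eq blkSet blkSet_spec blkSet_blk sectF secPairs pElts
  mem_secPairs map_conj_zpowers exists_orderOf_mem isBlockIdem_eU)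
open scoped Classical ComplexConjugate

universe u

variable {G : Type u} [Group G] [Fintype G] {M : Ideal AlgInt} [M.IsMaximal] {p : ℕ}
  [hp : Fact p.Prime] [CharP (AlgInt ⧸ M) p] {P : Subgroup G}
  {e : MonoidAlgebra (AlgInt ⧸ M) G} {B : Set (IrrCharacter G)}

/-- The `S`-orbit of `x` under conjugation. -/
noncomputable def orb (S : Subgroup G) (x : G) : Finset G :=
  Finset.univ.filter fun y => ∃ t ∈ S, t * x * t⁻¹ = y

theorem mem_orb {S : Subgroup G} {x y : G} : y ∈ orb S x ↔ ∃ t ∈ S, t * x * t⁻¹ = y := by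
  simp [orb]

theorem self_mem_orb (S : Subgroup G) (x : G) : x ∈ orb S x :=
  mem_orb.2 ⟨1, one_mem _, by group⟩

theorem orb_eq_of_mem {S : Subgroup G} {x y : G} (h : y ∈ orb S x) : orb S y = orb S x := by
  obtain ⟨t, ht, rfl⟩ := mem_orb.1 h
  ext z
  rw [mem_orb, mem_orb]
  exact ⟨fun ⟨s, hs, hz⟩ => ⟨s * t, mul_mem hs ht, by rw [← hz]; group⟩,
    fun ⟨s, hs, hz⟩ => ⟨s * t⁻¹, mul_mem hs (inv_mem ht), by rw [← hz]; group⟩⟩

theorem card_orb_ne_zero (S : Subgroup G) (x : G) : ((orb S x).card : ℂ) ≠ 0 :=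
  Nat.cast_ne_zero.2 (Finset.card_pos.2 ⟨x, self_mem_orb S x⟩).ne'

variable (p) in
/-- `l(b_x) / |x^T|`. -/
noncomputable def wt (P : Subgroup G) (e : MonoidAlgebra (AlgInt ⧸ M) G) (x : G) : ℂ :=
  (blockRank p (blkSet M (Subgroup.centralizer ({x} : Set G)) (eU p P e x)) : ℂ) /
    (orb (stabOf P e) x).card

theorem eU_stab (ha : IsPair p (P, e)) {u t : G} (hu : u ∈ P) (ht : t ∈ stabOf P e) :
    eU p P e (t * u * t⁻¹) = conjEl t (eU p P e u) := by
  refine eU_eq ha ((Subgroup.mem_normalizer_iff.1 ht.1 u).1 hu) ?_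
  have h := (eU_spec ha hu).conj t
  have he : conjPair t (P, e) = (P, e) :=
    Prod.ext (BrauerPairs.map_conj_eq_of_mem_normalizer ht.1) ht.2
  rw [he, show conjPair t (Subgroup.zpowers u, eU p P e u) =
    (Subgroup.zpowers (t * u * t⁻¹), conjEl t (eU p P e u)) from
      Prod.ext (map_conj_zpowers t u) rfl] at h
  exact h

theorem stab_orbit_of_conj (hB : IsPBlock M B) (ha : IsMax p (blkG M B) (P, e))
    (hcomm : P ≤ Subgroup.centralizer (P : Set G)) {g u u' : G} (hu : u ∈ P) (hu' : u' ∈ P)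
    (hg : g * u * g⁻¹ = u') (he : conjEl g (eU p P e u) = eU p P e u') :
    u' ∈ orb (stabOf P e) u := by
  obtain ⟨h, hh, hhg⟩ := BrauerPairs.exists_mul_mem_stabOf_of_comm (fun H => hasBlocks M H)
    (isBlockIdem_blkG hB) ha hcomm (g := g) (eU_spec ha.1.1 hu) (by
      rw [show conjPair g (Subgroup.zpowers u, eU p P e u) = (Subgroup.zpowers u', eU p P e u') from
        Prod.ext (by rw [← hg]; exact map_conj_zpowers g u) he]
      exact eU_spec ha.1.1 hu')
  rw [map_conj_zpowers, hg] at hh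
  refine mem_orb.2 ⟨h * g, hhg, ?_⟩
  calc h * g * u * (h * g)⁻¹ = h * (g * u * g⁻¹) * h⁻¹ := by group
    _ = u' := by
      rw [hg, ← Subgroup.mem_centralizer_iff.1 hh u' (Subgroup.mem_zpowers u'), mul_inv_cancel_right]

theorem pair_of_mem (hB : IsPBlock M B) (ha : IsMax p (blkG M B) (P, e)) {x : G} (hx : x ∈ P) :
    IsPairOf p (blkG M B) (Subgroup.zpowers x, eU p P e x) :=
  NilRank.isPairOf_eU (isBlockIdem_blkG hB) ha.1 hx

/-- A sum over the pairs of `B` as a sum over `P`. -/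
theorem sum_secPairs_eq (hpM : (p : AlgInt) ∈ M) (hB : IsPBlock M B)
    (ha : IsMax p (blkG M B) (P, e)) (hcomm : P ≤ Subgroup.centralizer (P : Set G))
    (F : G → MonoidAlgebra (AlgInt ⧸ M) G → ℂ)
    (hF : ∀ g u f, F (g * u * g⁻¹) (conjEl g f) = F u f) :
    ∑ q ∈ secPairs M p B, (Nat.card (Subgroup.centralizer ({q.1} : Set G)) : ℂ) * F q.1 q.2 =
      (Nat.card G : ℂ) * ∑ x : P, F x (eU p P e x) / (orb (stabOf P e) (x : G)).card := by
  have hblk : ∀ H : Subgroup G, BrauerPairs.HasBlocks (AlgInt ⧸ M) H := fun H => hasBlocks M H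
  have hBi := isBlockIdem_blkG hB
  let q : G × P → G × MonoidAlgebra (AlgInt ⧸ M) G := fun gu =>
    (gu.1 * gu.2 * gu.1⁻¹, conjEl gu.1 (eU p P e gu.2))
  let w : G × P → ℂ := fun gu => ((orb (stabOf P e) (gu.2 : G)).card : ℂ)⁻¹
  have hmem : ∀ gu, q gu ∈ secPairs M p B := fun gu => by
    have hpair := (pair_of_mem hB ha gu.2.2).conj hBi gu.1
    rw [show conjPair gu.1 (Subgroup.zpowers (gu.2 : G), eU p P e gu.2) =
      (Subgroup.zpowers (q gu).1, (q gu).2) from Prod.ext (map_conj_zpowers _ _) rfl] at hpair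
    refine (mem_secPairs hpM hB _).2 ⟨?_, hpair⟩
    obtain ⟨k, hk⟩ := exists_orderOf_mem ha.1.1.1 gu.2.2
    exact ⟨k, by
      show orderOf (MulAut.conj gu.1 (gu.2 : G)) = _
      rw [MulEquiv.orderOf_eq, hk]⟩
  have hfib : ∀ y ∈ secPairs M p B, ∑ gu ∈ Finset.univ.filter (fun gu => q gu = y), w gu =
      (Nat.card (Subgroup.centralizer ({y.1} : Set G)) : ℂ) := by
    intro y hy
    obtain ⟨-, hy2⟩ := (mem_secPairs hpM hB y).1 hy
    obtain ⟨g₁, hg₁⟩ := BrauerPairs.exists_conj_ple hblk hBi ha hy2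
    have hu0 : g₁ * y.1 * g₁⁻¹ ∈ P :=
      PLE.le hg₁ ⟨y.1, Subgroup.mem_zpowers _, rfl⟩
    set u₀ : G := g₁ * y.1 * g₁⁻¹ with hu₀
    have he0 : eU p P e u₀ = conjEl g₁ y.2 := by
      refine eU_eq ha.1.1 hu0 ?_
      rwa [show conjPair g₁ (Subgroup.zpowers y.1, y.2) = (Subgroup.zpowers u₀, conjEl g₁ y.2)
        from Prod.ext (map_conj_zpowers _ _) rfl] at hg₁
    set O := orb (stabOf P e) u₀ with hO
    have hOP : ∀ x ∈ O, x ∈ P := fun x hx => by
      obtain ⟨t, ht, rfl⟩ := mem_orb.1 hx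
      exact (Subgroup.mem_normalizer_iff.1 ht.1 u₀).1 hu0
    have hchoice : ∀ x : {x // x ∈ O}, ∃ t ∈ stabOf P e, t * u₀ * t⁻¹ = (x : G) := fun x =>
      mem_orb.1 x.2
    choose t ht htx using hchoice
    set C := Subgroup.centralizer ({y.1} : Set G) with hC
    let π : C × {x // x ∈ O} → G × P := fun cx =>
      ((cx.1 : G) * g₁⁻¹ * (t cx.2)⁻¹, ⟨cx.2, hOP _ cx.2.2⟩)
    have hfy : ∀ c ∈ C, conjEl c y.2 = y.2 := fun c hc => by
      have h := (hy2.1.2).mem.2
      exact h c (by rwa [centralizer_zpowers_eq])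
    have hw : ∀ gu, q gu = y → w gu = ((O.card : ℕ) : ℂ)⁻¹ ∧ ∃ cx, π cx = gu := by
      rintro ⟨a, u'⟩ h
      have h1 : a * u' * a⁻¹ = y.1 := congrArg Prod.fst h
      have h2 : conjEl a (eU p P e u') = y.2 := congrArg Prod.snd h
      have h3 : g₁ * a * u' * (g₁ * a)⁻¹ = u₀ := by
        rw [hu₀, ← h1]; group
      have h4 : conjEl (g₁ * a) (eU p P e u') = eU p P e u₀ := by
        rw [BrauerPairs.conjEl_mul, h2, he0]
      have h5 := stab_orbit_of_conj hB ha hcomm u'.2 hu0 h3 h4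
      have hu' : (u' : G) ∈ O := by
        rw [hO, orb_eq_of_mem h5]
        exact self_mem_orb _ _
      refine ⟨by simp only [w, hO, orb_eq_of_mem h5], ?_⟩
      have hc : a * t ⟨u', hu'⟩ * g₁ ∈ C := by
        rw [hC, Subgroup.mem_centralizer_singleton_iff]
        have e1 : t ⟨u', hu'⟩ * (g₁ * y.1 * g₁⁻¹) * (t ⟨u', hu'⟩)⁻¹ = u' := htx ⟨u', hu'⟩
        calc a * t ⟨u', hu'⟩ * g₁ * y.1 =
            a * (t ⟨u', hu'⟩ * (g₁ * y.1 * g₁⁻¹) * (t ⟨u', hu'⟩)⁻¹) * a⁻¹ *
              (a * t ⟨u', hu'⟩ * g₁) := by group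
          _ = _ := by rw [e1, h1]
      refine ⟨(⟨_, hc⟩, ⟨u', hu'⟩), Prod.ext ?_ rfl⟩
      show a * t ⟨u', hu'⟩ * g₁ * g₁⁻¹ * (t ⟨u', hu'⟩)⁻¹ = a
      group
    have hπ : ∀ cx, q (π cx) = y := by
      rintro ⟨c, x⟩
      refine Prod.ext ?_ ?_
      · show (c : G) * g₁⁻¹ * (t x)⁻¹ * x * ((c : G) * g₁⁻¹ * (t x)⁻¹)⁻¹ = y.1
        have hc : (c : G) * y.1 = y.1 * c := Subgroup.mem_centralizer_singleton_iff.1 c.2
        conv_lhs => arg 1; arg 2; rw [← htx x]
        calc _ = (c : G) * y.1 * (c : G)⁻¹ := by rw [hu₀]; group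
          _ = _ := by rw [hc, mul_inv_cancel_right]
      · show conjEl ((c : G) * g₁⁻¹ * (t x)⁻¹) (eU p P e x) = y.2
        rw [← htx x, eU_stab ha.1.1 hu0 (ht x), he0, BrauerPairs.conjEl_mul, BrauerPairs.conjEl_mul,
          BrauerPairs.conjEl_inv_conjEl, BrauerPairs.conjEl_inv_conjEl, hfy _ c.2]
    have hinj : Function.Injective π := by
      rintro ⟨c, x⟩ ⟨c', x'⟩ h
      have h2 : x = x' := Subtype.ext (congrArg (fun z : G × P => (z.2 : G)) h)
      subst h2
      have h1 : (c : G) * g₁⁻¹ * (t x)⁻¹ = (c' : G) * g₁⁻¹ * (t x)⁻¹ := congrArg Prod.fst h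
      exact Prod.ext (Subtype.ext (mul_right_cancel (mul_right_cancel h1))) rfl
    have himg : Finset.univ.filter (fun gu => q gu = y) = Finset.univ.image π := by
      ext gu
      simp only [Finset.mem_filter, Finset.mem_univ, true_and, Finset.mem_image]
      exact ⟨fun h => (hw gu h).2, fun ⟨cx, h⟩ => h ▸ hπ cx⟩
    rw [Finset.sum_congr rfl fun gu hgu => (hw gu (Finset.mem_filter.1 hgu).2).1, himg,
      Finset.sum_const, Finset.card_image_of_injective _ hinj, Finset.card_univ, Fintype.card_prod,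
      Fintype.card_coe, nsmul_eq_mul, Nat.cast_mul, mul_assoc, mul_inv_cancel₀ (card_orb_ne_zero _ _),
      mul_one, Nat.card_eq_fintype_card]
  calc ∑ y ∈ secPairs M p B, (Nat.card (Subgroup.centralizer ({y.1} : Set G)) : ℂ) * F y.1 y.2
      = ∑ y ∈ secPairs M p B, ∑ gu ∈ Finset.univ.filter (fun gu => q gu = y),
          w gu * F (q gu).1 (q gu).2 := by
        refine Finset.sum_congr rfl fun y hy => ?_
        rw [Finset.sum_congr rfl fun gu hgu => show w gu * F (q gu).1 (q gu).2 = w gu * F y.1 y.2 by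
          rw [(Finset.mem_filter.1 hgu).2], ← Finset.sum_mul, hfib y hy]
    _ = ∑ gu : G × P, w gu * F (q gu).1 (q gu).2 :=
        Finset.sum_fiberwise_of_maps_to (fun gu _ => hmem gu) fun gu => w gu * F (q gu).1 (q gu).2
    _ = _ := by
        rw [Fintype.sum_prod_type]
        simp only [w, q, hF]
        rw [Finset.sum_const, Finset.card_univ, nsmul_eq_mul, Nat.card_eq_fintype_card]
        congr 1
        exact Finset.sum_congr rfl fun x _ => by rw [div_eq_inv_mul]

theorem sectF_blkSet_conj (g u : G) (f : MonoidAlgebra (AlgInt ⧸ M) G)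
    (hf : IsBlockIdem (Subgroup.centralizer ({u} : Set G)) f) (χ : IrrCharacter G) :
    sectF p (Subgroup.centralizer ({g * u * g⁻¹} : Set G)) (g * u * g⁻¹)
        (blkSet M (Subgroup.centralizer ({g * u * g⁻¹} : Set G)) (conjEl g f)) χ.1 χ.1 =
      sectF p (Subgroup.centralizer ({u} : Set G)) u
        (blkSet M (Subgroup.centralizer ({u} : Set G)) f) χ.1 χ.1 := by
  have hH : ∀ c, c ∈ Subgroup.centralizer ({g * u * g⁻¹} : Set G) ↔
      g⁻¹ * c * g ∈ Subgroup.centralizer ({u} : Set G) := fun c => by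
    simp only [Subgroup.mem_centralizer_singleton_iff]
    constructor
    · intro h
      have := congrArg (fun y => g⁻¹ * y * g) h
      simpa [mul_assoc] using this
    · intro h
      have := congrArg (fun y => g * y * g⁻¹) h
      simpa [mul_assoc] using this
  obtain ⟨h1, h2⟩ := blkSet_spec hf
  conv_lhs => arg 4; rw [← h2, ← BrauerPairs.blk_mapBlock_conjIso g hH,
    blkSet_blk (BrauerPairs.isPBlock_mapBlock _ h1)]
  exact NilRank.sectF_conj g hH _ χ χ

/-- The contribution of the subsection at `x ∈ P`. -/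
noncomputable def ctb (p : ℕ) [Fact p.Prime] [CharP (AlgInt ⧸ M) p] (P : Subgroup G)
    (e : MonoidAlgebra (AlgInt ⧸ M) G) (χ : IrrCharacter G) (x : G) : ℂ :=
  sectF p (Subgroup.centralizer ({x} : Set G)) x
    (blkSet M (Subgroup.centralizer ({x} : Set G)) (eU p P e x)) χ.1 χ.1

theorem classInner_star (hpM : (p : AlgInt) ∈ M) (hB : IsPBlock M B)
    (ha : IsMax p (blkG M B) (P, e)) (hcomm : P ≤ Subgroup.centralizer (P : Set G))
    {lam : G → ℂ} (hl : Star.IsStable p P e lam) (χ : IrrCharacter G) :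
    classInner (Star.star (M := M) p B P e lam χ.1) χ.1 =
      ∑ x : P, lam x * ctb p P e χ x / (orb (stabOf P e) (x : G)).card := by
  let F : G → MonoidAlgebra (AlgInt ⧸ M) G → ℂ := fun u f => Star.lamT p P e lam u f *
    if IsBlockIdem (Subgroup.centralizer ({u} : Set G)) f then
      sectF p (Subgroup.centralizer ({u} : Set G)) u
        (blkSet M (Subgroup.centralizer ({u} : Set G)) f) χ.1 χ.1
    else 0
  have hmapC : ∀ g u : G, (Subgroup.centralizer ({u} : Set G)).map (MulAut.conj g).toMonoidHom =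
      Subgroup.centralizer ({g * u * g⁻¹} : Set G) := fun g u => by
    rw [← centralizer_zpowers_eq, BrauerPairs.map_conj_centralizer, map_conj_zpowers,
      centralizer_zpowers_eq]
  have hF : ∀ g u f, F (g * u * g⁻¹) (conjEl g f) = F u f := by
    intro g u f
    simp only [F, Star.lamT_conj hl]
    congr 1
    by_cases hf : IsBlockIdem (Subgroup.centralizer ({u} : Set G)) f
    · have hf' := hf.conj g
      rw [hmapC] at hf'
      rw [if_pos hf, if_pos hf', sectF_blkSet_conj g u f hf χ]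
    · rw [if_neg hf, if_neg]
      intro hf'
      have h := hf'.conj g⁻¹
      rw [hmapC, BrauerPairs.conjEl_inv_conjEl, show g⁻¹ * (g * u * g⁻¹) * g⁻¹⁻¹ = u by group] at h
      exact hf h
  have hsum := sum_secPairs_eq hpM hB ha hcomm F hF
  have hright : ∀ x : P, F x (eU p P e x) = lam x * ctb p P e χ x := fun x => by
    simp only [F, ctb, if_pos (isBlockIdem_eU ha.1.1 x.2)]
    rw [Star.lamT_eq hl (g := 1) (by rw [BrauerPairs.conjPair_one]; exact eU_spec ha.1.1 x.2)]
    simp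
  simp only [hright] at hsum
  refine mul_left_cancel₀ (Nat.cast_ne_zero.2 (Nat.card_pos (α := G)).ne' : (Nat.card G : ℂ) ≠ 0) ?_
  rw [← hsum, classInner, mul_inv_cancel_left₀ (Nat.cast_ne_zero.2 Nat.card_pos.ne'),
    NilRank.sum_eq_sum_sections (p := p)]
  have hterm : ∀ x ∈ pElts G p,
      (∑ s : Subgroup.centralizer ({x} : Set G), if IsPRegular p s then
        Star.star (M := M) p B P e lam χ.1 (x * (s : G)) * conj (χ.1 (x * (s : G))) else 0) =
      ∑ f ∈ Star.blocksAt M x, (Nat.card (Subgroup.centralizer ({x} : Set G)) : ℂ) * F x f := by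
    intro x hx
    have hxe := (Finset.mem_filter.1 hx).2
    set C := Subgroup.centralizer ({x} : Set G) with hC
    have hf : ∀ f ∈ Star.blocksAt M x, (Nat.card C : ℂ) * F x f =
        ∑ s : C, if IsPRegular p s then Star.lamT p P e lam x f *
          Star.kappa M χ.1 (x * (s : G)) x f * conj (χ.1 (x * (s : G))) else 0 := by
      intro f hf
      have hfb := Star.isBlockIdem_of_mem hf
      obtain ⟨h1, h2⟩ := blkSet_spec hfb
      simp only [F, if_pos hfb, sectF, finsum_eq_sum_of_fintype]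
      rw [mul_left_comm, mul_inv_cancel_left₀ (Nat.cast_ne_zero.2 Nat.card_pos.ne'), Finset.mul_sum]
      refine Finset.sum_congr rfl fun s _ => ?_
      split_ifs with hs
      · have hg : IsPPart p (x * (s : G)) x := isPPart_mul
          (Subgroup.mem_centralizer_singleton_iff.1 s.2).symm hxe
          (by rw [IsPRegular, Subgroup.orderOf_coe]; exact hs)
        conv_rhs => rw [← h2, Star.kappa_blk hpM hg χ h1]
        rw [h2]
        ring
      · rw [mul_zero]
    rw [Finset.sum_congr rfl hf, Finset.sum_comm]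
    refine Finset.sum_congr rfl fun s _ => ?_
    by_cases hs : IsPRegular p s
    · simp only [if_pos hs]
      have hg : IsPPart p (x * (s : G)) x := isPPart_mul
        (Subgroup.mem_centralizer_singleton_iff.1 s.2).symm hxe
        (by rw [IsPRegular, Subgroup.orderOf_coe]; exact hs)
      rw [Star.star_eq hpM hB ha hg χ, Finset.sum_mul]
    · simp only [if_neg hs, Finset.sum_const_zero]
  rw [Finset.sum_congr rfl hterm, Finset.sum_sigma']
  have hpairs : ∀ q ∈ secPairs M p B, (⟨q.1, q.2⟩ : Σ _ : G, MonoidAlgebra (AlgInt ⧸ M) G) ∈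
      (pElts G p).sigma fun x => Star.blocksAt M x := by
    intro q hq
    obtain ⟨hk, hpr⟩ := (mem_secPairs hpM hB q).1 hq
    refine Finset.mem_sigma.2 ⟨Finset.mem_filter.2 ⟨Finset.mem_univ _, hk⟩, Star.mem_blocksAt ?_⟩
    exact centralizer_zpowers_eq (x := q.1) ▸ hpr.1.2
  symm
  refine Finset.sum_bij_ne_zero (fun q _ _ => ⟨q.1, q.2⟩) (fun q hq _ => hpairs q hq)
    (fun q _ _ q' _ _ h => by
      simp only [Sigma.mk.injEq, heq_eq_eq] at h
      exact Prod.ext h.1 h.2)
    (fun s hs hne => ?_) fun q _ _ => rfl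
  obtain ⟨x, f⟩ := s
  obtain ⟨hx, hf⟩ := Finset.mem_sigma.1 hs
  refine ⟨(x, f), (mem_secPairs hpM hB (x, f)).2 ⟨(Finset.mem_filter.1 hx).2, ?_⟩, hne, rfl⟩
  by_contra hn
  exact hne (by simp [F, Star.lamT_eq_zero hB ha hn])

theorem sum_ctb (hpM : (p : AlgInt) ∈ M) (hB : IsPBlock M B)
    (ha : IsMax p (blkG M B) (P, e)) (hcomm : P ≤ Subgroup.centralizer (P : Set G))
    {χ : IrrCharacter G} (hχ : χ ∈ B) :
    ∑ x : P, ctb p P e χ x / (orb (stabOf P e) (x : G)).card = 1 := by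
  let F : G → MonoidAlgebra (AlgInt ⧸ M) G → ℂ := fun u f =>
    if IsBlockIdem (Subgroup.centralizer ({u} : Set G)) f then
      sectF p (Subgroup.centralizer ({u} : Set G)) u
        (blkSet M (Subgroup.centralizer ({u} : Set G)) f) χ.1 χ.1
    else 0
  have hmapC : ∀ g u : G, (Subgroup.centralizer ({u} : Set G)).map (MulAut.conj g).toMonoidHom =
      Subgroup.centralizer ({g * u * g⁻¹} : Set G) := fun g u => by
    rw [← centralizer_zpowers_eq, BrauerPairs.map_conj_centralizer, map_conj_zpowers,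
      centralizer_zpowers_eq]
  have hF : ∀ g u f, F (g * u * g⁻¹) (conjEl g f) = F u f := by
    intro g u f
    simp only [F]
    by_cases hf : IsBlockIdem (Subgroup.centralizer ({u} : Set G)) f
    · have hf' := hf.conj g
      rw [hmapC] at hf'
      rw [if_pos hf, if_pos hf', sectF_blkSet_conj g u f hf χ]
    · rw [if_neg hf, if_neg]
      intro hf'
      have h := hf'.conj g⁻¹
      rw [hmapC, BrauerPairs.conjEl_inv_conjEl, show g⁻¹ * (g * u * g⁻¹) * g⁻¹⁻¹ = u by group] at h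
      exact hf h
  have hsum := sum_secPairs_eq hpM hB ha hcomm F hF
  have h := NilRank.classInner_eq_sum_secPairs (p := p) hpM hB hχ χ
  rw [Char.classInner_irr_self χ.2, mul_one] at h
  have hleft : ∀ q ∈ secPairs M p B, F q.1 q.2 =
      sectF p (Subgroup.centralizer ({q.1} : Set G)) q.1
        (blkSet M (Subgroup.centralizer ({q.1} : Set G)) q.2) χ.1 χ.1 := by
    intro q hq
    have hpr := ((mem_secPairs hpM hB q).1 hq).2
    exact if_pos (centralizer_zpowers_eq (x := q.1) ▸ hpr.1.2)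
  rw [Finset.sum_congr rfl fun q hq => by rw [hleft q hq], ← h] at hsum
  refine mul_left_cancel₀ (Nat.cast_ne_zero.2 (Nat.card_pos (α := G)).ne' : (Nat.card G : ℂ) ≠ 0) ?_
  rw [mul_one]
  conv_rhs => rw [hsum]
  congr 1
  exact Finset.sum_congr rfl fun x _ => by
    simp only [F, ctb, if_pos (isBlockIdem_eU ha.1.1 x.2)]

/-- The contributions are positive. -/
theorem ctb_pos (hpM : (p : AlgInt) ∈ M) (hB : IsPBlock M B) (ha : IsMax p (blkG M B) (P, e))
    (hcomm : P ≤ Subgroup.centralizer (P : Set G)) {χ : IrrCharacter G} (hχ : χ ∈ B) {x : G}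
    (hx : x ∈ P) : ∃ r : ℝ, 0 < r ∧ ctb p P e χ x = r := by
  obtain ⟨k, hk⟩ := exists_orderOf_mem ha.1.1.1 hx
  set C := Subgroup.centralizer ({x} : Set G) with hC
  obtain ⟨h1, h2⟩ := blkSet_spec (isBlockIdem_eU ha.1.1 hx)
  set b := blkSet M C (eU p P e x) with hb
  have hind : IsInducedBlock M C b B := NilRank.isInducedBlock_eU hpM hB ha.1 hx
  have hPC : P ≤ C := by
    have h := BrauerPairs.le_centralizer_of_le_comm hcomm (Subgroup.zpowers_le.2 hx)
    rwa [centralizer_zpowers_eq] at h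
  have hD := BrauerPairs.defectIn_centralizer_of_comm (fun H => hasBlocks M H)
    (isBlockIdem_blkG hB) ha hcomm (eU_spec ha.1.1 hx)
  rw [centralizer_zpowers_eq (x := x), ← h2] at hD
  have hDP : IsDefectGroup p M B P :=
    (BrauerPairs.isDefectGroup_iff_exists_isMax hB P).2 ⟨e, ha⟩
  have hd : blockDefect p b = blockDefect p B := by
    have e1 := card_defectGroup hpM h1 ((BrauerPairs.isDefectGroup_subgroupOf_iff h1 hPC).2 hD)
    rw [Nat.card_congr (Subgroup.subgroupOfEquivOfLe hPC).toEquiv, card_defectGroup hpM hB hDP] at e1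
    exact (Nat.pow_right_injective hp.out.two_le e1).symm
  have hctb : ctb p P e χ x = contribution p b χ.1 χ.1 := NilRank.sectF_eq_contribution b χ χ.1
  have hsum := sum_contribution_mul_conj hpM hk hind χ
  obtain ⟨ψ₀, hψ₀, hψh⟩ := exists_height_zero hpM hB
  refine ⟨∑ ψ ∈ Finset.univ.filter (· ∈ B), ‖contribution p b χ.1 ψ.1‖ ^ 2, ?_, ?_⟩
  · refine Finset.sum_pos' (fun ψ _ => sq_nonneg _)
      ⟨ψ₀, Finset.mem_filter.2 ⟨Finset.mem_univ _, hψ₀⟩, ?_⟩
    have hne : contribution p b χ.1 ψ₀.1 ≠ 0 := fun h0 =>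
      (contribution_height hpM hk hind hd hχ hψ₀ hψh).2.1 (by simp [h0, memLocalIdeal_zero])
    positivity
  · rw [hctb, ← hsum]
    push_cast
    exact Finset.sum_congr rfl fun ψ _ => Complex.mul_conj' _

theorem exists_int_classInner {θ : G → ℂ} (h : IsGeneralizedCharacter G θ) (χ : IrrCharacter G) :
    ∃ z : ℤ, classInner θ χ.1 = z := by
  obtain ⟨α, β, hα, hβ, rfl⟩ := h
  obtain ⟨m, -, hm⟩ := Char.IsCharacter.exists_decomp hα
  obtain ⟨n, -, hn⟩ := Char.IsCharacter.exists_decomp hβ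
  refine ⟨(m χ : ℤ) - n χ, ?_⟩
  rw [Char.classInner_sub_left, hm χ, hn χ]
  push_cast
  ring

/-- `⟨lam * χ, χ⟩ = 0`. -/
theorem sum_lam_ctb (hpM : (p : AlgInt) ∈ M) (hB : IsPBlock M B)
    (ha : IsMax p (blkG M B) (P, e)) (hcomm : P ≤ Subgroup.centralizer (P : Set G))
    {lam : G → ℂ} (hl : Star.IsStable p P e lam) (hne : ∃ x ∈ P, lam x ≠ 1)
    {χ : IrrCharacter G} (hχ : χ ∈ B) :
    ∑ x : P, lam x * ctb p P e χ x / (orb (stabOf P e) (x : G)).card = 0 := by
  obtain ⟨z, hz⟩ := exists_int_classInner (Star.isGen_star hpM hB ha hl χ) χ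
  rw [classInner_star hpM hB ha hcomm hl χ] at hz
  choose r hr0 hr using fun x : P => ctb_pos hpM hB ha hcomm hχ x.2
  let a : P → ℝ := fun x => r x / (orb (stabOf P e) (x : G)).card
  have ha0 : ∀ x, 0 < a x := fun x => div_pos (hr0 x)
    (Nat.cast_pos.2 (Finset.card_pos.2 ⟨_, self_mem_orb _ _⟩))
  have h1 : ∑ x, a x = 1 := by
    have h := sum_ctb hpM hB ha hcomm hχ
    rw [Finset.sum_congr rfl fun (x : P) _ => show ctb p P e χ (x : G) / _ = (a x : ℂ) by
      rw [hr x]; simp [a]] at h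
    exact_mod_cast h
  have hsum : ∑ x : P, (a x : ℂ) * lam x = z := by
    rw [← hz]
    exact Finset.sum_congr rfl fun x _ => by rw [hr x]; simp only [a]; push_cast; ring
  have hre : ∑ x : P, a x * (lam x).re = z := by
    have h := congrArg Complex.re hsum
    simpa using h
  have hb : ∀ x : P, |(lam x).re| ≤ 1 := fun x =>
    (Complex.abs_re_le_norm _).trans (hl.norm_eq_one x.2).le
  obtain ⟨x₀, hx₀, hne₀⟩ := hne
  have hlt : (z : ℝ) < 1 := by
    rw [← hre, ← h1]
    refine Finset.sum_lt_sum (fun x _ => ?_) ⟨⟨x₀, hx₀⟩, Finset.mem_univ _, ?_⟩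
    · exact mul_le_of_le_one_right (ha0 x).le (abs_le.1 (hb x)).2
    · refine mul_lt_of_lt_one_right (ha0 _) (lt_of_le_of_ne (abs_le.1 (hb _)).2 fun hre1 => hne₀ ?_)
      have hn := hl.norm_eq_one hx₀
      have him : (lam x₀).im = 0 := by
        have h := Complex.sq_norm (lam x₀)
        rw [hn, Complex.normSq_apply, show (lam x₀).re = 1 from hre1] at h
        nlinarith
      exact Complex.ext (by simpa using hre1) (by simpa using him)
  have hgt : (-1 : ℝ) < z := by
    rw [← hre, ← h1, ← Finset.sum_neg_distrib]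
    refine Finset.sum_lt_sum (fun x _ => ?_) ⟨1, Finset.mem_univ _, ?_⟩
    · nlinarith [ha0 x, (abs_le.1 (hb x)).1]
    · simp only [OneMemClass.coe_one, hl.map_one, Complex.one_re]
      linarith [ha0 1]
  have hz0 : z = 0 := by
    have h2 : z < 1 := by exact_mod_cast hlt
    have h3 : -1 < z := by exact_mod_cast hgt
    omega
  rw [hz, hz0, Int.cast_zero]

theorem sum_ctb_block (hpM : (p : AlgInt) ∈ M) (hB : IsPBlock M B)
    (ha : IsMax p (blkG M B) (P, e)) {x : G} (hx : x ∈ P) :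
    ∑ χ ∈ Finset.univ.filter (· ∈ B), ctb p P e χ x =
      (blockRank p (blkSet M (Subgroup.centralizer ({x} : Set G)) (eU p P e x)) : ℂ) := by
  obtain ⟨k, hk⟩ := exists_orderOf_mem ha.1.1.1 hx
  rw [← sum_contribution_self hpM hk (NilRank.isInducedBlock_eU hpM hB ha.1 hx)]
  exact Finset.sum_congr rfl fun χ _ => NilRank.sectF_eq_contribution _ χ χ.1

/-- `Σ w = k(B)`. -/
theorem sum_wt (hpM : (p : AlgInt) ∈ M) (hB : IsPBlock M B) (ha : IsMax p (blkG M B) (P, e))
    (hcomm : P ≤ Subgroup.centralizer (P : Set G)) :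
    ∑ x : P, wt p P e x = Nat.card B := by
  calc ∑ x : P, wt p P e x
      = ∑ χ ∈ Finset.univ.filter (· ∈ B), ∑ x : P,
          ctb p P e χ x / (orb (stabOf P e) (x : G)).card := by
        rw [Finset.sum_comm]
        exact Finset.sum_congr rfl fun x _ => by
          rw [wt, ← sum_ctb_block hpM hB ha x.2, Finset.sum_div]
    _ = _ := by
        rw [Finset.sum_congr rfl fun χ hχ => sum_ctb hpM hB ha hcomm (Finset.mem_filter.1 hχ).2,
          Finset.sum_const, nsmul_eq_mul, mul_one, Nat.card_eq_fintype_card, Fintype.card_subtype]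

/-- `Σ lam w = 0`. -/
theorem sum_lam_wt (hpM : (p : AlgInt) ∈ M) (hB : IsPBlock M B) (ha : IsMax p (blkG M B) (P, e))
    (hcomm : P ≤ Subgroup.centralizer (P : Set G)) {lam : G → ℂ} (h1 : lam 1 = 1)
    (hmul : ∀ x ∈ P, ∀ y ∈ P, lam (x * y) = lam x * lam y)
    (hinv : ∀ t ∈ stabOf P e, ∀ x ∈ P, lam (t * x * t⁻¹) = lam x) (hne : ∃ x ∈ P, lam x ≠ 1) :
    ∑ x : P, lam x * wt p P e x = 0 := by
  have hl : Star.IsStable p P e lam := by
    refine ⟨h1, hmul, fun g Q hg x hx => ?_⟩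
    obtain ⟨hQ, f, hf, hgf⟩ := hg
    obtain ⟨h, hh, hhg⟩ := BrauerPairs.exists_mul_mem_stabOf_of_comm (fun H => hasBlocks M H)
      (isBlockIdem_blkG hB) ha hcomm hf hgf
    rw [← hinv _ hhg x (hQ hx)]
    congr 1
    have hc := Subgroup.mem_centralizer_iff.1 hh (g * x * g⁻¹) ⟨x, hx, rfl⟩
    calc g * x * g⁻¹ = g * x * g⁻¹ * h * h⁻¹ := by rw [mul_inv_cancel_right]
      _ = _ := by rw [hc]; group
  calc ∑ x : P, lam x * wt p P e x
      = ∑ χ ∈ Finset.univ.filter (· ∈ B), ∑ x : P,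
          lam x * ctb p P e χ x / (orb (stabOf P e) (x : G)).card := by
        rw [Finset.sum_comm]
        exact Finset.sum_congr rfl fun x _ => by
          rw [wt, ← sum_ctb_block hpM hB ha x.2, Finset.sum_div, Finset.mul_sum]
          exact Finset.sum_congr rfl fun χ _ => by ring
    _ = 0 := Finset.sum_eq_zero fun χ hχ =>
        sum_lam_ctb hpM hB ha hcomm hl hne (Finset.mem_filter.1 hχ).2

end Cfsg.Agent.Watanabe
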