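import Cfsg.Agent.Lib.Watanabe.Rho
import Cfsg.Agent.Lib.Watanabe.StarSum
import Cfsg.Agent.Lib.Watanabe.Fourier
import Cfsg.Agent.Lib.BrauerPairs.InducedIn

/-!
# Watanabe's theorem

For a block `B` with abelian defect group `P`, maximal pair `(P, e)` and `u ∈ P` fixed by the stabiliser
of the pair: `rho R = rho (R ⊔ ⟨u⟩)` for every `R ≤ P`, and the block of `C(u)` below `(P, e)` has as
many characters as `B`.
-/

set_option autoImplicit false
set_option linter.unusedSectionVars false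
set_option linter.style.haveILetI false

namespace Cfsg.Agent.Watanabe

open Cfsg MonoidAlgebra
open Cfsg.Agent Cfsg.Agent.BrauerPairs
open Cfsg.Agent.Blocks.NilRank (eU eU_spec blkSet blkSet_spec map_conj_zpowers)
open scoped Classical Cfsg.Agent.Blocks

universe u

variable {G : Type u} [Group G] [Fintype G] {M : Ideal AlgInt} [M.IsMaximal] {p : ℕ}
  [hp : Fact p.Prime] [CharP (AlgInt ⧸ M) p] {P : Subgroup G}
  {e : MonoidAlgebra (AlgInt ⧸ M) G} {B : Set (IrrCharacter G)}

/-- The stabiliser of the pair inside `C(R)`. -/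
noncomputable def stabIn (P : Subgroup G) (e : MonoidAlgebra (AlgInt ⧸ M) G) (R : Subgroup G) :
    Subgroup G :=
  stabOf P e ⊓ Subgroup.centralizer (R : Set G)

variable (p) in
/-- `l / |orbit|` at `x` relative to `C(R)`. -/
noncomputable def wtIn (P : Subgroup G) (e : MonoidAlgebra (AlgInt ⧸ M) G) (R : Subgroup G) (x : G) :
    ℂ :=
  (rho p P e (R ⊔ Subgroup.zpowers x) : ℂ) / (orb (stabIn P e R) x).card

theorem centralizer_sup_zpowers (R : Subgroup G) (x : G) :
    Subgroup.centralizer ((R ⊔ Subgroup.zpowers x : Subgroup G) : Set G) =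
      Subgroup.centralizer (R : Set G) ⊓ Subgroup.centralizer ({x} : Set G) := by
  rw [centralizer_sup_eq, Blocks.centralizer_zpowers_eq]

theorem sum_wtIn_aux (hpM : (p : AlgInt) ∈ M) (ha : IsPair p (P, e))
    (hcomm : P ≤ Subgroup.centralizer (P : Set G)) {R K : Subgroup G} (hR : R ≤ P)
    (hK : K = Subgroup.centralizer (R : Set G)) {b : Set (IrrCharacter K)} (hb : IsPBlock M b)
    (hle : PLE p (R, blk M K b) (P, e)) {E : MonoidAlgebra (AlgInt ⧸ M) K}
    (hmax' : IsMax p (blkG M b) (P.subgroupOf K, E)) (hinc : incl K (AlgInt ⧸ M) E = e) :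
    (∑ x : P, wtIn p P e R x = kap p P e R) ∧
    ∀ lam : G → ℂ, lam 1 = 1 → (∀ x ∈ P, ∀ y ∈ P, lam (x * y) = lam x * lam y) →
      (∀ t ∈ stabIn P e R, ∀ x ∈ P, lam (t * x * t⁻¹) = lam x) → (∃ x ∈ P, lam x ≠ 1) →
      ∑ x : P, lam x * wtIn p P e R x = 0 := by
  have hPK : P ≤ K := hK ▸ le_centralizer_of_le_comm hcomm hR
  set P' : Subgroup K := P.subgroupOf K with hP'
  have hblk' : ∀ L : Subgroup K, HasBlocks (AlgInt ⧸ M) L := fun L => hasBlocks M L
  have hcomm' : P' ≤ Subgroup.centralizer (P' : Set K) := fun x hx =>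
    Subgroup.mem_centralizer_iff.2 fun y hy =>
      Subtype.ext (Subgroup.mem_centralizer_iff.1 (hcomm hx) y hy)
  have hmap : P'.map K.subtype = P := Subgroup.map_subgroupOf_eq_of_le hPK
  have hstab : ∀ k : K, k ∈ stabOf P' E ↔ (k : G) ∈ stabOf P e := by
    intro k
    constructor
    · intro hk
      have h1 : P.map (MulAut.conj (k : G)).toMonoidHom = P := by
        rw [← hmap, ← map_map_conj_subtype, map_conj_eq_of_mem_normalizer hk.1]
      refine ⟨mem_normalizer_of_conj_le fun v hv => h1.le ⟨v, hv, rfl⟩, ?_⟩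
      show conjEl (k : G) e = e
      rw [← hinc, ← conjEl_incl, hk.2]
    · intro hk
      refine ⟨mem_normalizer_of_conj_le fun v hv => (Subgroup.mem_normalizer_iff.1 hk.1 v).1 hv, ?_⟩
      show conjEl k E = E
      apply incl_injective K
      rw [conjEl_incl, hinc]
      exact hk.2
  have horb : ∀ x' : K, (orb (stabOf P' E) x').card = (orb (stabIn P e R) (x' : G)).card := by
    intro x'
    rw [← Finset.card_image_of_injective _ K.subtype_injective]
    congr 1
    ext y
    simp only [Finset.mem_image, mem_orb]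
    constructor
    · rintro ⟨y', ⟨t, ht, rfl⟩, rfl⟩
      exact ⟨t, ⟨(hstab t).1 ht, hK.le t.2⟩, rfl⟩
    · rintro ⟨t, ⟨ht, htK⟩, rfl⟩
      exact ⟨_, ⟨⟨t, hK.ge htK⟩, (hstab _).2 ht, rfl⟩, rfl⟩
  have hwt : ∀ x' : P', wt p P' E (x' : K) = wtIn p P e R ((x' : K) : G) := by
    rintro ⟨x', hx'⟩
    rw [wt, wtIn, horb]
    congr 2
    set L := Subgroup.centralizer ({x'} : Set K) with hL
    obtain ⟨h1, h2⟩ := blkSet_spec (Blocks.NilRank.isBlockIdem_eU hmax'.1.1 hx')
    have hLmap : L.map K.subtype =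
        Subgroup.centralizer ((R ⊔ Subgroup.zpowers (x' : G) : Subgroup G) : Set G) := by
      rw [hL, ← Blocks.centralizer_zpowers_eq, map_centralizer_sub, MonoidHom.map_zpowers,
        centralizer_sup_eq]
      exact congrArg₂ (· ⊓ ·) hK rfl
    have hxP : (x' : G) ∈ P := hx'
    have hs := step_of_ple_comm hblk' hmax'.1.1 hcomm' (eU_spec hmax'.1.1 hx')
    set R' : Subgroup K := R.subgroupOf K with hR'
    have hle' : R' ⊔ Subgroup.zpowers x' ≤ P' := sup_le (fun r hr => hR hr) (Subgroup.zpowers_le.2 hx')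
    have hCC : Subgroup.centralizer ((R' ⊔ Subgroup.zpowers x' : Subgroup K) : Set K) =
        Subgroup.centralizer (Subgroup.zpowers x' : Set K) := by
      refine le_antisymm (Subgroup.centralizer_le (SetLike.coe_subset_coe.2 le_sup_right)) ?_
      rw [centralizer_sup_eq]
      exact le_inf (fun v _ => Subgroup.mem_centralizer_iff.2 fun r hr =>
        Subtype.ext (Subgroup.mem_centralizer_iff.1 (hK.le v.2) r hr)) le_rfl
    have hs' := step_of_centralizer_eq hs hle'
      ((le_centralizer_of_le_comm hcomm' hle').trans (Subgroup.centralizer_le_normalizer _)) hCC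
    have hRmap : (R' ⊔ Subgroup.zpowers x').map K.subtype = R ⊔ Subgroup.zpowers (x' : G) := by
      rw [Subgroup.map_sup, Subgroup.map_subgroupOf_eq_of_le (hR.trans hPK), MonoidHom.map_zpowers]
      rfl
    have hG := PLE.of_incl (Relation.ReflTransGen.single hs') (by
      show Subgroup.centralizer ((_ : Subgroup G) : Set G) ≤ K
      rw [hRmap]
      exact (Subgroup.centralizer_le (SetLike.coe_subset_coe.2 le_sup_left)).trans hK.ge)
    rw [show inclPair (R' ⊔ Subgroup.zpowers x', eU p P' E x') =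
        (R ⊔ Subgroup.zpowers (x' : G), incl K (AlgInt ⧸ M) (blk M L (blkSet M L (eU p P' E x')))) from
          Prod.ext hRmap (by rw [h2]; rfl),
      show inclPair (P', E) = (P, e) from Prod.ext hmap hinc] at hG
    exact (rho_kap_eq_nested ha hLmap h1 hG).1
  let eqv : P' ≃ P := (Subgroup.subgroupOfEquivOfLe hPK).toEquiv
  have hsum : ∀ f : G → ℂ, ∑ x' : P', f ((x' : K) : G) = ∑ x : P, f x := fun f =>
    Fintype.sum_equiv eqv _ _ fun x' => rfl
  constructor
  · rw [← hsum (wtIn p P e R), ← (rho_kap_eq ha hK hb hle).2,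
      ← sum_wt hpM hb hmax' hcomm']
    exact Finset.sum_congr rfl fun x _ => (hwt x).symm
  · intro lam h1 hmul hinv hne
    rw [← hsum (fun g => lam g * wtIn p P e R g)]
    rw [Finset.sum_congr rfl fun (x : P') _ => show lam ((x : K) : G) * wtIn p P e R ((x : K) : G) =
      (fun k : K => lam k) x * wt p P' E (x : K) by rw [hwt]]
    refine sum_lam_wt hpM hb hmax' hcomm' (lam := fun k : K => lam k) (by simpa using h1)
      (fun x hx y hy => by simpa using hmul _ hx _ hy) (fun t ht x hx => ?_) ?_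
    · simpa using hinv t ⟨(hstab t).1 ht, hK.le t.2⟩ x hx
    · obtain ⟨x, hx, hx1⟩ := hne
      exact ⟨⟨x, hPK hx⟩, hx, hx1⟩

/-- The weights relative to `C(R)` sum to `kap R` and are orthogonal to invariant characters. -/
theorem sum_wtIn (hpM : (p : AlgInt) ∈ M) (hB : IsPBlock M B) (ha : IsMax p (blkG M B) (P, e))
    (hcomm : P ≤ Subgroup.centralizer (P : Set G)) {R : Subgroup G} (hR : R ≤ P) :
    (∑ x : P, wtIn p P e R x = kap p P e R) ∧
    ∀ lam : G → ℂ, lam 1 = 1 → (∀ x ∈ P, ∀ y ∈ P, lam (x * y) = lam x * lam y) →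
      (∀ t ∈ stabIn P e R, ∀ x ∈ P, lam (t * x * t⁻¹) = lam x) → (∃ x ∈ P, lam x ≠ 1) →
      ∑ x : P, lam x * wtIn p P e R x = 0 := by
  have hblk : ∀ H : Subgroup G, HasBlocks (AlgInt ⧸ M) H := fun H => hasBlocks M H
  have hCK : Subgroup.centralizer (P : Set G) ≤ Subgroup.centralizer (R : Set G) :=
    Subgroup.centralizer_le hR
  obtain ⟨b, hb, hle⟩ := exists_block ha.1.1 hR
  have hst := step_of_ple_comm hblk ha.1.1 hcomm hle
  obtain ⟨c, hc, hce⟩ := exists_eq_blk (Subgroup.centralizer (P : Set G)) ha.1.1.2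
  have hD := defectIn_centralizer_of_comm hblk (isBlockIdem_blkG hB) ha hcomm hle
  obtain ⟨e', he', hinc⟩ := exists_maximalPair_sub hb hD hCK hc (by rw [hce]; exact hst.2.2.2.2.2)
  rw [hce] at hinc
  exact sum_wtIn_aux hpM ha.1.1 hcomm hR rfl hb hle ((isMaximalBrauerPair_iff hb).1 he').2 hinc

/-- The sum of the weights over each coset of `[S, P]`. -/
theorem coset_wtIn (hpM : (p : AlgInt) ∈ M) (hB : IsPBlock M B) (ha : IsMax p (blkG M B) (P, e))
    (hcomm : P ≤ Subgroup.centralizer (P : Set G)) {R : Subgroup G} (hR : R ≤ P) {a : G} (haP : a ∈ P) :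
    ((commSub (stabIn P e R) P).relIndex P : ℂ) *
      ∑ x ∈ Finset.univ.filter (fun x : P => a⁻¹ * x ∈ commSub (stabIn P e R) P), wtIn p P e R x =
      kap p P e R := by
  obtain ⟨h1, h2⟩ := sum_wtIn hpM hB ha hcomm hR
  refine coset_sum (fun x hx y hy => Subgroup.mem_centralizer_iff.1 (hcomm hy) x hx) _ _ h1
    (fun lam hl1 hmul hW hne => h2 lam hl1 hmul (fun t ht x hx => ?_) hne) haP
  have htx : t * x * t⁻¹ ∈ P := (Subgroup.mem_normalizer_iff.1 ht.1.1 x).1 hx
  have hmem : t * x * t⁻¹ * x⁻¹ ∈ commSub (stabIn P e R) P :=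
    Subgroup.subset_closure ⟨t, ht, x, hx, rfl⟩
  have h3 := hmul _ (mul_mem htx (inv_mem hx)) x hx
  rw [hW _ (mul_mem htx (inv_mem hx)) hmem, one_mul, inv_mul_cancel_right] at h3
  exact h3

theorem not_dvd_relIndex_stabIn (hB : IsPBlock M B) (ha : IsMax p (blkG M B) (P, e))
    (hcomm : P ≤ Subgroup.centralizer (P : Set G)) {R : Subgroup G} (hR : R ≤ P) :
    ¬ p ∣ (Subgroup.centralizer (P : Set G)).relIndex (stabIn P e R) := by
  have hblk : ∀ H : Subgroup G, HasBlocks (AlgInt ⧸ M) H := fun H => hasBlocks M H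
  have hle : PLE p (P, e) (P, e) := Relation.ReflTransGen.refl
  have hD : DefectIn p (stabOf P e) e (P ⊓ Subgroup.normalizer (P : Set G)) := by
    obtain ⟨x, hx, hD⟩ := exists_conj_defectIn_stabOf hblk (isBlockIdem_blkG hB) ha hle
    have e1 : P.map (MulAut.conj x).toMonoidHom = P :=
      Subgroup.eq_of_le_of_card_ge hx.le (BrauerPairs.card_map_conj x P).ge
    have e2 : conjEl x e = e := congrArg Prod.snd (hx.eq_of_fst_eq e1)
    rwa [e1, e2] at hD
  have hindex := not_dvd_index_stabOf hblk ha.1.1 hle hD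
  rw [inf_eq_left.2 Subgroup.le_normalizer, sup_eq_right.2 hcomm] at hindex
  intro h
  refine hindex (h.trans ?_)
  show (Subgroup.centralizer (P : Set G)).relIndex (stabIn P e R) ∣
    (Subgroup.centralizer (P : Set G)).relIndex (stabOf P e)
  exact Dvd.intro _ (Subgroup.relIndex_mul_relIndex _ (stabIn P e R) _
    (le_inf (centralizer_le_stabOf ha.1.1.2) (Subgroup.centralizer_le hR)) inf_le_left)

theorem eq_one_of_mem_commSub (hB : IsPBlock M B) (ha : IsMax p (blkG M B) (P, e))
    (hcomm : P ≤ Subgroup.centralizer (P : Set G)) {R : Subgroup G} (hR : R ≤ P) {w : G}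
    (hw : w ∈ commSub (stabIn P e R) P) (hfix : ∀ t ∈ stabIn P e R, t * w * t⁻¹ = w) : w = 1 := by
  have hN : stabIn P e R ≤ Subgroup.normalizer (P : Set G) := inf_le_left.trans (stabOf_le P e)
  haveI : ((Subgroup.centralizer (P : Set G)).subgroupOf (stabIn P e R)).Normal :=
    Subgroup.normal_subgroupOf_of_le_normalizer (hN.trans (normalizer_le_normalizer_centralizer P))
  exact eq_one_of_fixed_mem ha.1.1.1 (fun x hx y hy => Subgroup.mem_centralizer_iff.1 (hcomm hy) x hx)
    hN (not_dvd_relIndex_stabIn hB ha hcomm hR) hw hfix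

theorem sup_zpowers_mul (R : Subgroup G) (u w : G) :
    R ⊔ Subgroup.zpowers (u * w) ⊔ Subgroup.zpowers u = R ⊔ Subgroup.zpowers w ⊔ Subgroup.zpowers u := by
  apply le_antisymm
  · refine sup_le (sup_le (le_sup_left.trans le_sup_left) (Subgroup.zpowers_le.2 ?_)) le_sup_right
    exact mul_mem (Subgroup.mem_sup_right (Subgroup.mem_zpowers u))
      (Subgroup.mem_sup_left (Subgroup.mem_sup_right (Subgroup.mem_zpowers w)))
  · refine sup_le (sup_le (le_sup_left.trans le_sup_left) (Subgroup.zpowers_le.2 ?_)) le_sup_right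
    simpa using mul_mem (Subgroup.mem_sup_right (inv_mem (Subgroup.mem_zpowers u)))
      (Subgroup.mem_sup_left (Subgroup.mem_sup_right (Subgroup.mem_zpowers (u * w))) :
        u * w ∈ R ⊔ Subgroup.zpowers (u * w) ⊔ Subgroup.zpowers u)

/-- The rank does not change when the fixed element is added. -/
theorem rho_sup_fixed (hpM : (p : AlgInt) ∈ M) (hB : IsPBlock M B) (ha : IsMax p (blkG M B) (P, e))
    (hcomm : P ≤ Subgroup.centralizer (P : Set G)) {u : G} (hu : u ∈ P)
    (hfix : ∀ t ∈ stabOf P e, t * u * t⁻¹ = u) (n : ℕ) :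
    ∀ R : Subgroup G, R ≤ P → Nat.card (Subgroup.centralizer (R : Set G)) = n →
      rho p P e R = rho p P e (R ⊔ Subgroup.zpowers u) := by
  induction n using Nat.strong_induction_on with
  | _ n ih =>
  intro R hR hn
  have hRu : R ⊔ Subgroup.zpowers u ≤ P := sup_le hR (Subgroup.zpowers_le.2 hu)
  by_cases hcase : Subgroup.centralizer (R : Set G) ≤ Subgroup.centralizer ({u} : Set G)
  · exact (rho_congr ha.1.1 hcomm hRu hR
      (by rw [centralizer_sup_zpowers, inf_eq_left.2 hcase])).1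
  set S := stabIn P e R with hS
  set W := commSub S P with hW
  have hWP : W ≤ P := commSub_le (inf_le_left.trans (stabOf_le P e))
  -- the only element of `W ∪ uW` centralised by `C(R)` is `1`
  have hlt : ∀ x : G, ¬ Subgroup.centralizer (R : Set G) ≤ Subgroup.centralizer ({x} : Set G) →
      Nat.card (Subgroup.centralizer ((R ⊔ Subgroup.zpowers x : Subgroup G) : Set G)) < n := by
    intro x hx
    rw [centralizer_sup_zpowers, ← hn]
    refine lt_of_le_of_ne (Subgroup.card_le_of_le inf_le_left) fun h => hx ?_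
    exact inf_eq_left.1 (Subgroup.eq_of_le_of_card_ge inf_le_left h.ge)
  have hcent : ∀ x : G, Subgroup.centralizer (R : Set G) ≤ Subgroup.centralizer ({x} : Set G) →
      ∀ t ∈ S, t * x * t⁻¹ = x := fun x hx t ht => by
    rw [Subgroup.mem_centralizer_singleton_iff.1 (hx ht.2), mul_inv_cancel_right]
  have key : ∀ w ∈ W, w ≠ 1 →
      rho p P e (R ⊔ Subgroup.zpowers w) = rho p P e (R ⊔ Subgroup.zpowers (u * w)) := by
    intro w hw hw1
    have hwP := hWP hw
    have h1 : ¬ Subgroup.centralizer (R : Set G) ≤ Subgroup.centralizer ({w} : Set G) := fun h =>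
      hw1 (eq_one_of_mem_commSub hB ha hcomm hR hw (hcent w h))
    have h2 : ¬ Subgroup.centralizer (R : Set G) ≤ Subgroup.centralizer ({u * w} : Set G) := fun h =>
      hw1 (eq_one_of_mem_commSub hB ha hcomm hR hw fun t ht => by
        have h3 := hcent _ h t ht
        rw [show t * (u * w) * t⁻¹ = t * u * t⁻¹ * (t * w * t⁻¹) by group, hfix t ht.1] at h3
        exact mul_left_cancel h3)
    rw [ih _ (hlt _ h1) _ (sup_le hR (Subgroup.zpowers_le.2 hwP)) rfl,
      ih _ (hlt _ h2) _ (sup_le hR (Subgroup.zpowers_le.2 (mul_mem hu hwP))) rfl, sup_zpowers_mul]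
  have h1 := coset_wtIn hpM hB ha hcomm hR (one_mem P)
  have h2 := coset_wtIn hpM hB ha hcomm hR hu
  rw [← h2] at h1
  have hne : ((W.relIndex P : ℕ) : ℂ) ≠ 0 :=
    Nat.cast_ne_zero.2 (Subgroup.index_ne_zero_of_finite (H := W.subgroupOf P))
  have h3 := mul_left_cancel₀ hne h1
  have horb : ∀ w : G, (orb S (u * w)).card = (orb S w).card := by
    intro w
    rw [show orb S (u * w) = (orb S w).image (u * ·) from ?_,
      Finset.card_image_of_injective _ (mul_right_injective u)]
    ext y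
    simp only [Finset.mem_image, mem_orb]
    have hc : ∀ t ∈ S, t * (u * w) * t⁻¹ = u * (t * w * t⁻¹) := fun t ht => by
      rw [show t * (u * w) * t⁻¹ = t * u * t⁻¹ * (t * w * t⁻¹) by group, hfix t ht.1]
    exact ⟨fun ⟨t, ht, h⟩ => ⟨_, ⟨t, ht, rfl⟩, by rw [← h, hc t ht]⟩,
      fun ⟨_, ⟨t, ht, rfl⟩, h⟩ => ⟨t, ht, by rw [hc t ht, h]⟩⟩
  have h4 : ∑ x ∈ Finset.univ.filter (fun x : P => u⁻¹ * x ∈ W), wtIn p P e R x =
      ∑ x ∈ Finset.univ.filter (fun x : P => (1 : G)⁻¹ * x ∈ W), wtIn p P e R (u * x) := by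
    refine Finset.sum_equiv (Equiv.mulLeft (⟨u, hu⟩ : P)⁻¹) (fun x => ?_) fun x _ => ?_
    · simp
    · simp
  rw [h4, ← sub_eq_zero, ← Finset.sum_sub_distrib, Finset.sum_eq_single (1 : P)] at h3
  · simp only [wtIn, OneMemClass.coe_one, mul_one, Subgroup.zpowers_one_eq_bot, sup_bot_eq] at h3
    rw [show orb S u = (orb S 1).image (u * ·) from ?_] at h3
    · rw [Finset.card_image_of_injective _ (mul_right_injective u), ← sub_div, div_eq_zero_iff] at h3
      exact_mod_cast sub_eq_zero.1 (h3.resolve_right (card_orb_ne_zero S 1))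
    · ext y
      simp only [Finset.mem_image, mem_orb]
      exact ⟨fun ⟨t, ht, h⟩ => ⟨1, ⟨t, ht, by group⟩, by rw [← h, hfix t ht.1, mul_one]⟩,
        fun ⟨_, ⟨t, ht, rfl⟩, h⟩ => ⟨t, ht, by
          rw [hfix t ht.1, ← h]
          group⟩⟩
  · intro w hw hw1
    have hwW : (w : G) ∈ W := by simpa using (Finset.mem_filter.1 hw).2
    rw [wtIn, wtIn, key w hwW fun h => hw1 (Subtype.ext h), horb, sub_self]
  · intro h
    exact absurd (Finset.mem_filter.2 ⟨Finset.mem_univ _, by simp⟩) h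

/-- Watanabe: `B` and the block of `C(u)` below `(P, e)` have the same `l` and `k`. -/
theorem rho_kap_fixed (hpM : (p : AlgInt) ∈ M) (hB : IsPBlock M B) (ha : IsMax p (blkG M B) (P, e))
    (hcomm : P ≤ Subgroup.centralizer (P : Set G)) {u : G} (hu : u ∈ P)
    (hfix : ∀ t ∈ stabOf P e, t * u * t⁻¹ = u) :
    blockRank p B = rho p P e (Subgroup.zpowers u) ∧ Nat.card B = kap p P e (Subgroup.zpowers u) := by
  have hrho := rho_sup_fixed hpM hB ha hcomm hu hfix
  obtain ⟨h1, h2⟩ := rho_kap_bot hB ha.1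
  refine ⟨by rw [← h1, hrho _ ⊥ bot_le rfl, bot_sup_eq], ?_⟩
  have hu' : Subgroup.zpowers u ≤ P := Subgroup.zpowers_le.2 hu
  have hS : stabIn P e (Subgroup.zpowers u) = stabIn P e ⊥ := by
    refine le_antisymm (le_inf inf_le_left fun g _ => Subgroup.mem_centralizer_iff.2 fun x hx => by
        rw [Subgroup.mem_bot.1 hx, one_mul, mul_one])
      (le_inf inf_le_left fun g hg => ?_)
    rw [Blocks.centralizer_zpowers_eq, Subgroup.mem_centralizer_singleton_iff]
    exact mul_inv_eq_iff_eq_mul.1 (hfix g hg.1)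
  have hw : ∀ x : P, wtIn p P e (Subgroup.zpowers u) x = wtIn p P e ⊥ x := fun x => by
    rw [wtIn, wtIn, hS, bot_sup_eq, hrho _ _ (Subgroup.zpowers_le.2 x.2) rfl, sup_comm]
  have h3 := coset_wtIn hpM hB ha hcomm hu' (one_mem P)
  rw [Finset.sum_congr rfl fun x _ => hw x, hS, coset_wtIn hpM hB ha hcomm bot_le (one_mem P)] at h3
  rw [← h2]
  exact_mod_cast h3

end Cfsg.Agent.Watanabe
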