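import Cfsg.Agent.Lib.BrauerPairs.AbelianDefect
import Cfsg.Agent.Lib.BrauerPairs.Lift
import Cfsg.Prelude.Def_BlockRank

/-!
# Rank and size of the blocks below a pair

`rho R` and `kap R`: the `p`-regular rank and the number of irreducible characters of the block of `C(R)`
below the pair `(P, e)`, with transport along equal or nested centralizers.
-/

set_option autoImplicit false
set_option linter.unusedSectionVars false

open MonoidAlgebra Cfsg
open scoped Classical Cfsg.Agent.Blocks

namespace Cfsg.Agent.Watanabe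

open Cfsg.Agent Cfsg.Agent.BrauerPairs

universe u

section Transport

variable {H K : Type u} [Group H] [Group K]

theorem blockRank_mapBlock (p : ℕ) (e : H ≃* K) (A : Set (IrrCharacter K)) :
    blockRank p (mapBlock e A) = blockRank p A := by
  let L : (K → ℂ) →ₗ[ℂ] (H → ℂ) := LinearMap.funLeft ℂ ℂ e
  have hL : Function.Injective L := LinearMap.funLeft_injective_of_surjective ℂ ℂ _ e.surjective
  have h : (fun χ : IrrCharacter H => pRegularPart p (χ : H → ℂ)) '' mapBlock e A =
      L '' ((fun χ : IrrCharacter K => pRegularPart p (χ : K → ℂ)) '' A) := by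
    rw [mapBlock, Set.image_image, Set.image_image]
    refine Set.image_congr fun χ _ => funext fun x => ?_
    by_cases hx : IsPRegular p x
    · simp [L, LinearMap.funLeft_apply, pRegularPart, hx, show IsPRegular p (e x) by rwa [IsPRegular, e.orderOf_eq]]
    · simp [L, LinearMap.funLeft_apply, pRegularPart, hx,
        show ¬ IsPRegular p (e x) by rwa [IsPRegular, e.orderOf_eq]]
  unfold blockRank
  rw [h, Submodule.span_image]
  exact (Submodule.equivMapOfInjective L hL _).finrank_eq.symm

theorem card_mapBlock (e : H ≃* K) (A : Set (IrrCharacter K)) :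
    Nat.card (mapBlock e A) = Nat.card A :=
  Nat.card_image_of_injective (compIrr e).injective A

end Transport

variable {G : Type u} [Group G] [Finite G] {M : Ideal AlgInt} [M.IsMaximal] {p : ℕ} [Fact p.Prime]
  [CharP (AlgInt ⧸ M) p]

theorem blk_nested {K : Subgroup G} (L : Subgroup K) (b : Set (IrrCharacter L)) :
    blk M (L.map K.subtype)
        (mapBlock (L.equivMapOfInjective K.subtype K.subtype_injective).symm b) =
      incl K (AlgInt ⧸ M) (blk M L b) := by
  refine Blocks.alg_ext fun g => ?_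
  rw [coeff_blk]
  unfold subgroupBlockCoeff
  by_cases hg : g ∈ L.map K.subtype
  · obtain ⟨k, hk, rfl⟩ := id hg
    rw [dif_pos hg, blockCoeff_mapBlock]
    refine Eq.trans ?_ ((coeff_incl_coe K _ k).trans (coeff_blk L b k)).symm
    unfold subgroupBlockCoeff
    rw [dif_pos (show k ∈ L from hk)]
    congr 2
    exact (L.equivMapOfInjective K.subtype K.subtype_injective).symm_apply_apply ⟨k, hk⟩
  · rw [dif_neg hg, Blocks.red_zero]
    by_cases hgK : g ∈ K
    · refine Eq.symm ((coeff_incl_coe K _ (⟨g, hgK⟩ : K)).trans ?_)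
      rw [coeff_blk, subgroupBlockCoeff]
      have hn : (⟨g, hgK⟩ : K) ∉ L := fun h => hg ⟨_, h, rfl⟩
      rw [dif_neg hn, Blocks.red_zero]
    · rw [coeff_incl_of_notMem K _ hgK]

theorem blk_topEquiv {H : Subgroup G} (hH : H = ⊤) (B : Set (IrrCharacter G)) :
    blk M H (mapBlock ((MulEquiv.subgroupCongr hH).trans Subgroup.topEquiv) B) = blkG M B := by
  refine Blocks.alg_ext fun g => ?_
  rw [coeff_blk, coeff_blkG]
  unfold subgroupBlockCoeff
  rw [dif_pos (hH ▸ Subgroup.mem_top g : g ∈ H), blockCoeff_mapBlock]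
  rfl

variable (p) in
/-- The rank of the block of `C(R)` below `(P, e)`. -/
noncomputable def rho (P : Subgroup G) (e : MonoidAlgebra (AlgInt ⧸ M) G) (R : Subgroup G) : ℕ :=
  if h : ∃ b : Set (IrrCharacter (Subgroup.centralizer (R : Set G))),
      IsPBlock M b ∧ PLE p (R, blk M _ b) (P, e) then blockRank p h.choose else 0

variable (p) in
/-- The number of characters of the block of `C(R)` below `(P, e)`. -/
noncomputable def kap (P : Subgroup G) (e : MonoidAlgebra (AlgInt ⧸ M) G) (R : Subgroup G) : ℕ :=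
  if h : ∃ b : Set (IrrCharacter (Subgroup.centralizer (R : Set G))),
      IsPBlock M b ∧ PLE p (R, blk M _ b) (P, e) then Nat.card h.choose else 0

variable {P : Subgroup G} {e : MonoidAlgebra (AlgInt ⧸ M) G}

theorem exists_block (ha : IsPair p (P, e)) {R : Subgroup G} (hR : R ≤ P) :
    ∃ b : Set (IrrCharacter (Subgroup.centralizer (R : Set G))),
      IsPBlock M b ∧ PLE p (R, blk M _ b) (P, e) := by
  obtain ⟨f, hf⟩ := exists_ple (fun H => hasBlocks M H) ha R hR
  obtain ⟨b, hb, hbe⟩ := exists_eq_blk (Subgroup.centralizer (R : Set G)) (hf.isPair_left ha).2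
  exact ⟨b, hb, by rw [hbe]; exact hf⟩

theorem rho_kap_eq (ha : IsPair p (P, e)) {R K : Subgroup G}
    (hK : K = Subgroup.centralizer (R : Set G)) {b : Set (IrrCharacter K)} (hb : IsPBlock M b)
    (hle : PLE p (R, blk M K b) (P, e)) :
    blockRank p b = rho p P e R ∧ Nat.card b = kap p P e R := by
  subst hK
  have h : ∃ b : Set (IrrCharacter (Subgroup.centralizer (R : Set G))),
      IsPBlock M b ∧ PLE p (R, blk M _ b) (P, e) := ⟨b, hb, hle⟩
  have e1 : b = h.choose := blk_injective _ hb h.choose_spec.1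
    (ple_unique (fun H => hasBlocks M H) ha R _ _ hle h.choose_spec.2)
  rw [rho, kap, dif_pos h, dif_pos h, ← e1]
  exact ⟨rfl, rfl⟩

theorem rho_kap_eq_nested (ha : IsPair p (P, e)) {R K : Subgroup G} {L : Subgroup K}
    (hL : L.map K.subtype = Subgroup.centralizer (R : Set G)) {b : Set (IrrCharacter L)}
    (hb : IsPBlock M b) (hle : PLE p (R, incl K (AlgInt ⧸ M) (blk M L b)) (P, e)) :
    blockRank p b = rho p P e R ∧ Nat.card b = kap p P e R := by
  rw [← blk_nested] at hle
  have h := rho_kap_eq ha hL (isPBlock_mapBlock _ hb) hle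
  rwa [blockRank_mapBlock, card_mapBlock] at h

theorem rho_congr (ha : IsPair p (P, e)) (hcomm : P ≤ Subgroup.centralizer (P : Set G))
    {R R' : Subgroup G} (hR : R ≤ P) (hR' : R' ≤ P)
    (hC : Subgroup.centralizer (R' : Set G) = Subgroup.centralizer (R : Set G)) :
    rho p P e R' = rho p P e R ∧ kap p P e R' = kap p P e R := by
  obtain ⟨b, hb, hle⟩ := exists_block ha hR
  have hs := step_of_centralizer_eq (step_of_ple_comm (fun H => hasBlocks M H) ha hcomm hle) hR'
    ((le_centralizer_of_le_comm hcomm hR').trans (Subgroup.centralizer_le_normalizer _)) hC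
  obtain ⟨h1, h2⟩ := rho_kap_eq ha rfl hb hle
  obtain ⟨h3, h4⟩ := rho_kap_eq ha hC.symm hb (Relation.ReflTransGen.single hs)
  exact ⟨h3.symm.trans h1, h4.symm.trans h2⟩

theorem rho_kap_bot {B : Set (IrrCharacter G)} (hB : IsPBlock M B)
    (ha : IsPairOf p (blkG M B) (P, e)) :
    rho p P e ⊥ = blockRank p B ∧ kap p P e ⊥ = Nat.card B := by
  have hC : Subgroup.centralizer ((⊥ : Subgroup G) : Set G) = ⊤ := eq_top_iff.2 fun g _ =>
    Subgroup.mem_centralizer_iff.2 fun x hx => by rw [Subgroup.mem_bot.1 hx, one_mul, mul_one]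
  have hBi := isBlockIdem_blkG hB
  obtain ⟨f, hf⟩ := exists_ple (fun H => hasBlocks M H) ha.1 ⊥ bot_le
  have hfp := (ple_isPairOf_iff hBi hf).1 ha
  have hbr : br (⊥ : Subgroup G) (blkG M B) = blkG M B := br_eq_self fun x hx => by
    rw [hC] at hx
    exact absurd (Subgroup.mem_top x) hx
  have hfe : f = blkG M B := by
    have h2 := hfp.2
    simp only [hbr] at h2
    have hfi : IsBlockIdem (⊤ : Subgroup G) f := hC ▸ hfp.1.2
    exact hfi.eq_of_mul_ne_zero hBi (by rw [h2]; exact hfi.ne_zero)
  subst hfe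
  have h := rho_kap_eq ha.1 rfl (isPBlock_mapBlock ((MulEquiv.subgroupCongr hC).trans Subgroup.topEquiv) hB)
    (by rw [blk_topEquiv hC]; exact hf)
  rw [blockRank_mapBlock, card_mapBlock] at h
  exact ⟨h.1.symm, h.2.symm⟩

end Cfsg.Agent.Watanabe
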